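import Groth.Agent.Lib.Lambda.AdamsRR.Poly
import Groth.Agent.Lib.Lambda.ExtFilt
import Groth.Agent.Lib.Lambda.Det
import Mathlib.RingTheory.Flat.Basic
import Mathlib.RingTheory.Flat.Localization
import Mathlib.RingTheory.TensorProduct.Maps
import Mathlib.RingTheory.Polynomial.Vieta

/-!
# Adams Riemann–Roch for the elementary projection
-/

set_option autoImplicit false
set_option maxHeartbeats 1000000
universe v

open LambdaRing Polynomial Finset TensorProduct

noncomputable section

namespace GrothLib.Lambda.AdamsRR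

open GrothLib.Lambda

theorem isUnit_natCast_away (j : ℕ) : IsUnit (j : Localization.Away (j : ℤ)) := by
  have := IsLocalization.Away.algebraMap_isUnit (S := Localization.Away (j : ℤ)) (j : ℤ)
  rwa [map_natCast] at this

theorem flat_away (j : ℕ) : @Module.Flat ℤ (Localization.Away (j : ℤ)) _ _ (AddCommGroup.toIntModule _) := by
  have h := IsLocalization.flat (Localization.Away (j : ℤ)) (Submonoid.powers (j : ℤ))
  refine @Module.Flat.of_linearEquiv ℤ (Localization.Away (j : ℤ)) (Localization.Away (j : ℤ)) _ _ Algebra.toModule _ (AddCommGroup.toIntModule _) h ?_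
  exact @AddEquiv.toIntLinearEquiv _ _ _ _ _ _ (AddEquiv.refl (Localization.Away (j : ℤ)))

attribute [local instance 10000] Ring.toIntAlgebra

variable {K : Type v} [CommRing K] [LambdaOps K] {P : PosStructure K}

/-- Multiplying by a line element. -/
theorem lam_line_mul (hK : HasSplitting K P) {a : K} (ha : P.IsLine a) (z : K) (i : ℕ) :
    LambdaOps.lam i (a * z) = a ^ i * LambdaOps.lam i z := by
  obtain ⟨L, f, hf, h⟩ := exists_split hK [z]
  refine hf.injective ?_
  have key : ∀ y ∈ lineGroup L.posStr, lamSeries (f a * y) = PowerSeries.rescale (f a) (lamSeries y) := by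
    intro y hy
    induction hy using AddSubgroup.closure_induction with
    | mem w hw =>
      ext k
      rw [PowerSeries.coeff_rescale, lamSeries, lamSeries, PowerSeries.coeff_mk, PowerSeries.coeff_mk]
      rcases k with _ | _ | k
      · simp [LambdaOps.lam_zero]
      · simp [LambdaOps.lam_one]
      · rw [lam_line_eq_zero (IsLine.mul (IsExtension.map_line hf ha) hw) (by omega),
          lam_line_eq_zero hw (by omega), mul_zero]
    | zero => rw [mul_zero, lamSeries_zero, map_one]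
    | add x y _ _ hx hy => rw [mul_add, lamSeries_add, lamSeries_add, map_mul, hx, hy]
    | neg x _ hx =>
      refine (isUnit_lamSeries (f a * x)).mul_right_cancel ?_
      rw [mul_neg, lamSeries_neg, hx, ← map_mul, lamSeries_neg, map_one]
  have := congrArg (PowerSeries.coeff i) (key (f z) (h z (by simp)))
  rw [PowerSeries.coeff_rescale, lamSeries, lamSeries, PowerSeries.coeff_mk, PowerSeries.coeff_mk,
    ← map_mul, ← hf.isLambdaHom, ← hf.isLambdaHom, ← map_pow, ← map_mul] at this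
  exact this

theorem adams_one' (P : PosStructure K) (j : ℕ) : adams P j 1 = 1 := by
  rw [adams_line (isLine_one P), one_pow]

/-- The Adams operation as a ring map. -/
def adamsRingHom (hK : HasSplitting K P) (j : ℕ) : K →+* K where
  toFun := adams P j
  map_one' := adams_one' P j
  map_mul' := adams_mul hK j
  map_zero' := (adamsAddHom P j).map_zero
  map_add' := adams_add P j

theorem isLine_pow {a : K} (ha : P.IsLine a) : ∀ m : ℕ, P.IsLine (a ^ m)
  | 0 => by rw [pow_zero]; exact isLine_one P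
  | m + 1 => by rw [pow_succ]; exact IsLine.mul (isLine_pow ha m) ha

/-- A monic polynomial with roots near one: the roots are unipotent. -/
theorem isNilpotent_root_sub_one {A : Type*} [CommRing A] {n : ℕ} (c : ℕ → A)
    (hc : ∀ k, IsNilpotent (c k - (n.choose k : A))) {a : A}
    (ha : ∑ k ∈ range (n + 1), (-1) ^ k * c k * a ^ (n - k) = 0) : IsNilpotent (a - 1) := by
  refine IsNilpotent.of_pow (m := n) ?_
  rw [← mem_nilradical]
  have h : (a - 1) ^ n = ∑ k ∈ range (n + 1), (-1) ^ k * (n.choose k : A) * a ^ (n - k) := by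
    rw [sub_eq_add_neg, add_comm, add_pow]
    exact sum_congr rfl fun k _ => by ring
  rw [h, ← sub_zero (∑ k ∈ range (n + 1), _), ← ha, ← sum_sub_distrib]
  refine sum_mem fun k _ => ?_
  rw [← sub_mul, ← mul_sub]
  exact Ideal.mul_mem_right _ _ (Ideal.mul_mem_left _ _ (by
    rw [← neg_sub]; exact neg_mem (mem_nilradical.2 (hc k))))

theorem bottSym_eval {B : Type*} [CommRing B] (j m : ℕ) (w : Fin m → B) (lam : ℕ → B)
    (h : ∀ k, k < m → lam (k + 1) = MvPolynomial.aeval w (MvPolynomial.esymm (Fin m) ℤ (k + 1))) :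
    MvPolynomial.aeval (fun i : Fin m => lam (i.1 + 1)) (KRR.bottPoly j m) =
      ∏ i, ∑ k ∈ range j, w i ^ k := by
  rw [show (fun i : Fin m => lam (i.1 + 1)) =
    fun i : Fin m => MvPolynomial.aeval w (MvPolynomial.esymm (Fin m) ℤ (i.1 + 1)) from funext fun i => h _ i.2]
  rw [← MvPolynomial.comp_aeval_apply]
  have h2 := (MvPolynomial.esymmAlgEquiv (Fin m) ℤ (Fintype.card_fin _)).apply_symm_apply
    ⟨KRR.bottSym j m, KRR.bottSym_isSymmetric j m⟩
  have h3 := congr_arg Subtype.val h2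
  rw [MvPolynomial.esymmAlgEquiv_apply, MvPolynomial.esymmAlgHom_apply] at h3
  have h4 : MvPolynomial.aeval (fun i : Fin m =>
      MvPolynomial.esymm (Fin m) ℤ (i.1 + 1)) (KRR.bottPoly j m) = KRR.bottSym j m := h3
  erw [h4]
  rw [KRR.bottSym]
  simp

variable {e : K} {r : ℕ}

theorem monic_extPoly (hr : P.aug e = r + 1) : (KRR.extPoly P e).Monic ∧
    ∀ [Nontrivial K], (KRR.extPoly P e).natDegree = r + 1 := by
  have hn : (P.aug e).toNat = r + 1 := by omega
  have h : KRR.extPoly P e = X ^ (r + 1) + ∑ k ∈ range (r + 1),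
      C ((-1 : K) ^ (k + 1) * LambdaOps.lam (k + 1) e) * X ^ (r + 1 - (k + 1)) := by
    rw [KRR.extPoly, hn, sum_range_succ', add_comm]
    simp [LambdaOps.lam_zero]
  have hd : (∑ k ∈ range (r + 1),
      C ((-1 : K) ^ (k + 1) * LambdaOps.lam (k + 1) e) * X ^ (r + 1 - (k + 1))).degree < ((r + 1 : ℕ) : WithBot ℕ) := by
    refine (degree_sum_le _ _).trans_lt ((Finset.sup_lt_iff (WithBot.bot_lt_coe _)).2 fun k _ => ?_)
    exact (degree_C_mul_X_pow_le _ _).trans_lt (by exact_mod_cast (by omega : r + 1 - (k + 1) < r + 1))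
  rw [h]
  exact ⟨monic_X_pow_add hd,
    by intro _; rw [natDegree_add_eq_left_of_degree_lt (by rwa [degree_X_pow]), natDegree_X_pow]⟩

/-- The functional is the top coefficient. -/
theorem functional_eq_coeff [Nontrivial K] (he : e ∈ P.pos) (hr : P.aug e = r + 1)
    (f : AdjoinRoot (KRR.extPoly P e) →ₗ[K] K)
    (hf : ∀ i : ℕ, i ≤ r → f (AdjoinRoot.root (KRR.extPoly P e) ^ i) = KRR.sigma i e)
    (linv : AdjoinRoot (KRR.extPoly P e)) (hlinv : linv * AdjoinRoot.root (KRR.extPoly P e) = 1)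
    (G : K[X]) :
    f (AdjoinRoot.mk _ G) = ((X ^ r * G) %ₘ KRR.extPoly P e).coeff r := by
  obtain ⟨hm, hdeg⟩ := monic_extPoly (P := P) (e := e) hr
  set H := (X ^ r * G) %ₘ (KRR.extPoly P e)
  have h1 : AdjoinRoot.mk (KRR.extPoly P e) G = linv ^ r * AdjoinRoot.mk (KRR.extPoly P e) H := by
    rw [show AdjoinRoot.mk (KRR.extPoly P e) H = AdjoinRoot.mk (KRR.extPoly P e) (X ^ r * G) from
      AdjoinRoot.mk_eq_mk.2 (by
        rw [show H - X ^ r * G = -((KRR.extPoly P e) * ((X ^ r * G) /ₘ (KRR.extPoly P e))) from by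
          have := modByMonic_add_div (X ^ r * G) (KRR.extPoly P e); simp only [H]; linear_combination this]
        exact dvd_neg.2 (dvd_mul_right _ _)),
      map_mul, map_pow, AdjoinRoot.mk_X, ← mul_assoc, ← mul_pow, hlinv, one_pow, one_mul]
  have hH : H.natDegree < r + 1 := by
    have := natDegree_modByMonic_lt (X ^ r * G) hm (fun h => by
      have := congrArg natDegree h; rw [hdeg, natDegree_one] at this; omega)
    rwa [hdeg] at this
  rw [h1, Polynomial.as_sum_range' H (r + 1) hH, map_sum, mul_sum, map_sum, ← Polynomial.as_sum_range' H (r + 1) hH,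
    sum_eq_single r]
  · rw [← C_mul_X_pow_eq_monomial, map_mul (AdjoinRoot.mk _), map_pow (AdjoinRoot.mk _), AdjoinRoot.mk_C, AdjoinRoot.mk_X, mul_left_comm,
      ← mul_pow, hlinv, one_pow, functional_of_mul, ← pow_zero (AdjoinRoot.root (KRR.extPoly P e)), hf 0 (Nat.zero_le r)]
    have h0 := PowerSeries.constantCoeff_invOfUnit ((PowerSeries.rescale (-1 : K) (lamSeries e))) 1
    rw [KRR.sigma, KRR.sigmaSeries, PowerSeries.coeff_zero_eq_constantCoeff, h0]
    simp
  · intro i hi hir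
    have hi' : i < r := by have := mem_range.1 hi; omega
    rw [← C_mul_X_pow_eq_monomial, map_mul (AdjoinRoot.mk _), map_pow (AdjoinRoot.mk _), AdjoinRoot.mk_C, AdjoinRoot.mk_X, mul_left_comm,
      show linv ^ r * AdjoinRoot.root (KRR.extPoly P e) ^ i = linv ^ (r - i) from by
        conv_lhs => rw [show r = (r - i) + i from by omega, pow_add, mul_assoc, ← mul_pow, hlinv, one_pow, mul_one],
      functional_of_mul, functional_inv_pow he hr f hf linv hlinv (r - i) (by omega) (by omega), mul_zero]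
  · intro h; exact absurd (self_mem_range_succ r) h

theorem adamsRR_of_unit {R : Type} [CommRing R] [Nontrivial R] [Module.Flat ℤ R] (hK : HasSplitting K P) (he : e ∈ P.pos) (hr : P.aug e = r + 1)
    (inst : LambdaOps (AdjoinRoot (KRR.extPoly P e))) (Pe : @PosStructure _ _ inst)
    (hext : @IsExtension K _ _ _ _ inst P Pe (AdjoinRoot.of (KRR.extPoly P e)))
    (hline : @PosStructure.IsLine _ _ inst Pe (AdjoinRoot.root (KRR.extPoly P e)))
    (hsplit : @HasSplitting _ _ inst Pe) (N : ℕ) (hN : @gammaFiltration _ _ inst Pe N = ⊥)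
    (f : AdjoinRoot (KRR.extPoly P e) →ₗ[K] K)
    (hf : ∀ i : ℕ, i ≤ r → f (AdjoinRoot.root (KRR.extPoly P e) ^ i) = KRR.sigma i e)
    (linv : AdjoinRoot (KRR.extPoly P e)) (hlinv : linv * AdjoinRoot.root (KRR.extPoly P e) = 1)
    (j : ℕ) (hj : 1 ≤ j) (hjR : IsUnit (j : R)) :
    (∃ w : R ⊗[ℤ] AdjoinRoot (KRR.extPoly P e),
      w * ((1 : R) ⊗ₜ[ℤ] @KRR.bott _ _ inst Pe j (AdjoinRoot.of (KRR.extPoly P e) e * linv)) = 1) ∧
    ∀ w : R ⊗[ℤ] AdjoinRoot (KRR.extPoly P e),
      w * ((1 : R) ⊗ₜ[ℤ] @KRR.bott _ _ inst Pe j (AdjoinRoot.of (KRR.extPoly P e) e * linv)) = 1 →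
      ∀ x : AdjoinRoot (KRR.extPoly P e),
        (1 : R) ⊗ₜ[ℤ] adams P j (f x) =
          LinearMap.lTensor R f.toAddMonoidHom.toIntLinearMap
            ((j : R ⊗[ℤ] AdjoinRoot (KRR.extPoly P e)) * w *
              ((1 : R) ⊗ₜ[ℤ] @adams _ _ inst Pe j x)) := by
  set c := AdjoinRoot.of (KRR.extPoly P e) e * linv with hcdef
  -- augmentation zero means nilpotent
  have hnil : ∀ z : AdjoinRoot (KRR.extPoly P e), Pe.aug z = 0 → IsNilpotent z := fun z hz => by
    have h1 : z ∈ gammaFiltration Pe 1 := by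
      rw [gammaFiltration, if_neg one_ne_zero]
      refine AddSubgroup.subset_closure ⟨[(1, z)], ?_, ?_, ?_⟩ <;> simp [gamma_one', hz]
    have : ∀ k, z ^ k ∈ gammaFiltration Pe k := fun k => by
      induction k with
      | zero => simp [gammaFiltration]
      | succ k ih => rw [pow_succ]; exact filt_mul le_rfl ih h1
    exact ⟨N, by simpa [hN] using this N⟩
  have hnilK : ∀ z : K, P.aug z = 0 → IsNilpotent z := fun z hz =>
    (IsNilpotent.map_iff hext.injective).1 (hnil _ (by rw [hext.aug_comp]; exact hz))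
  have hn : (P.aug e).toNat = r + 1 := by omega
  have haugc : Pe.aug c = r + 1 := by
    have := congrArg Pe.aug hlinv
    rw [map_mul, map_one, hline.2, mul_one] at this
    rw [hcdef, map_mul, hext.aug_comp, this, mul_one, hr]
  have hlamc : ∀ k, LambdaOps.lam k c = linv ^ k * AdjoinRoot.of (KRR.extPoly P e) (LambdaOps.lam k e) := fun k => by
    have h1 : (AdjoinRoot.root (KRR.extPoly P e)) * c = AdjoinRoot.of (KRR.extPoly P e) e := by
      rw [hcdef, mul_left_comm, mul_comm (AdjoinRoot.root (KRR.extPoly P e)), hlinv, mul_one]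
    rw [hext.isLambdaHom, ← h1, lam_line_mul hsplit hline, ← mul_assoc, ← mul_pow, hlinv, one_pow, one_mul]
  refine ⟨?_, fun w hw => ?_⟩
  · -- invertibility
    have hb : Pe.aug (KRR.bott Pe j c) = (j : ℤ) ^ (r + 1) := by
      rw [KRR.bott, haugc, show ((r : ℤ) + 1).toNat = r + 1 by omega, ringHom_aeval,
        bottSym_eval j (r + 1) (fun _ => (1 : ℤ)) (fun k => Pe.aug (LambdaOps.lam k c)) fun k _ => ?_]
      · simp
      · have h1 : Pe.aug linv = 1 := by
          have := congrArg Pe.aug hlinv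
          rwa [map_mul, map_one, hline.2, mul_one] at this
        rw [hlamc, map_mul, map_pow, h1, one_pow, one_mul, hext.aug_comp, aug_lam hK he, hn]
        simp [MvPolynomial.esymm]
    obtain ⟨d, hd⟩ : ∃ d, IsNilpotent d ∧ KRR.bott Pe j c = (j : AdjoinRoot (KRR.extPoly P e)) ^ (r + 1) + d := by
      refine ⟨KRR.bott Pe j c - (j : AdjoinRoot (KRR.extPoly P e)) ^ (r + 1), hnil _ ?_, (add_sub_cancel _ _).symm⟩
      rw [map_sub, hb, map_pow, map_natCast, sub_self]
    have hu : IsUnit ((1 : R) ⊗ₜ[ℤ] KRR.bott Pe j c) := by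
      rw [hd.2, tmul_add]
      refine IsNilpotent.isUnit_add_left_of_commute (hd.1.map (Algebra.TensorProduct.includeRight (R := ℤ) (A := R))) ?_ (mul_comm _ _)
      have h2 := (hjR.pow (r + 1)).map (Algebra.TensorProduct.includeLeft (R := ℤ) (S := ℤ) (B := AdjoinRoot (KRR.extPoly P e)))
      rw [map_pow, map_natCast] at h2
      show IsUnit (Algebra.TensorProduct.includeRight (R := ℤ) (A := R) ((j : AdjoinRoot (KRR.extPoly P e)) ^ (r + 1)))
      rwa [map_pow, map_natCast]
    exact ⟨_, hu.val_inv_mul⟩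
  -- the identity
  obtain ⟨C₀, hC₀, hsp⟩ := id hK
  obtain ⟨L, hL, ι, hι, t, ht, hsum⟩ := hsp _ hC₀ e he
  have hKL : HasSplitting L.carrier L.posStr := ⟨C₀, hL, hsp⟩
  have hcard : t.toList.length = r + 1 := by
    rw [Multiset.length_toList, ← card_of_split ht, hsum, hι.aug_comp, hn]
  let uL : Fin (r + 1) → L.carrier := fun k => t.toList[k.1]'(by omega)
  have hv : univ.val.map uL = t := by
    have h' : List.ofFn uL = t.toList := List.ext_getElem (by simp [hcard]) (fun i h₁ h₂ => by rw [List.getElem_ofFn])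
    rw [Fin.univ_val_map, h', Multiset.coe_toList]
  have hul : ∀ k, L.posStr.IsLine (uL k) := fun k => ht _ (Multiset.mem_toList.1 (List.getElem_mem _))
  have hlam : ∀ k, ι (LambdaOps.lam k e) = t.esymm k := fun k => by
    rw [hι.isLambdaHom, ← hsum]
    exact lam_multiset_sum t (fun v hv j hj => lam_line_eq_zero (ht v hv) hj) k
  have hpmap : (KRR.extPoly P e).map ι = nodalP uL := by
    have h1 := Multiset.prod_X_sub_X_eq_sum_esymm t
    rw [show Multiset.card t = r + 1 by rw [← Multiset.length_toList, hcard]] at h1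
    rw [nodalP, Finset.prod_eq_multiset_prod, show Multiset.map (fun k => X - C (uL k)) univ.val = (univ.val.map uL).map (fun v => X - C v) from (Multiset.map_map (fun v => X - C v) uL _).symm, hv, h1, KRR.extPoly, hn,
      Polynomial.map_sum]
    refine sum_congr rfl fun k _ => ?_
    simp [hlam]
    ring
  let iL : L.carrier →+* (R ⊗[ℤ] L.carrier) := (Algebra.TensorProduct.includeRight (R := ℤ) (A := R)).toRingHom
  let χ : K →+* (R ⊗[ℤ] L.carrier) := iL.comp ι
  let uA : Fin (r + 1) → (R ⊗[ℤ] L.carrier) := iL ∘ uL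
  have hnilu : ∀ k, IsNilpotent (uL k - 1) := fun k => by
    refine isNilpotent_root_sub_one (n := r + 1) (fun i => ι (LambdaOps.lam i e)) (fun i => ?_) ?_
    · have h1 : P.aug (LambdaOps.lam i e - ((r + 1).choose i : K)) = 0 := by
        rw [map_sub, aug_lam hK he, hn, map_natCast, sub_self]
      simpa using (hnilK _ h1).map ι
    · have h1 : (nodalP uL).eval (uL k) = 0 := by
        rw [nodalP, eval_prod]; exact prod_eq_zero (mem_univ k) (by simp)
      rw [← hpmap, KRR.extPoly, hn, Polynomial.map_sum, eval_finsetSum] at h1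
      rw [← h1]
      exact sum_congr rfl fun i _ => by simp
  have hQ : IsUnit (disc j uA) := by
    have hjA : IsUnit (j : (R ⊗[ℤ] L.carrier)) := by
      have := hjR.map (Algebra.TensorProduct.includeLeft (R := ℤ) (S := ℤ) (A := R) (B := L.carrier))
      rwa [map_natCast] at this
    have hone : ∀ k, Ideal.Quotient.mk (nilradical (R ⊗[ℤ] L.carrier)) (uA k) = 1 := fun k => by
      rw [← map_one (Ideal.Quotient.mk (nilradical (R ⊗[ℤ] L.carrier))), Ideal.Quotient.mk_eq_mk_iff_sub_mem, mem_nilradical]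
      simpa [uA] using (hnilu k).map iL
    suffices hh : IsUnit (Ideal.Quotient.mk (nilradical (R ⊗[ℤ] L.carrier)) (disc j uA)) by
      haveI := isLocalHom_of_le_jacobson_bot (nilradical (R ⊗[ℤ] L.carrier)) (nilradical_le_jacobson _ |>.trans (by rw [Ideal.jacobson_bot]))
      exact IsLocalHom.map_nonunit _ hh
    rw [show Ideal.Quotient.mk (nilradical (R ⊗[ℤ] L.carrier)) (disc j uA) = disc j (Ideal.Quotient.mk (nilradical (R ⊗[ℤ] L.carrier)) ∘ uA) from map_disc (R := R ⊗[ℤ] L.carrier) (S := (R ⊗[ℤ] L.carrier) ⧸ nilradical (R ⊗[ℤ] L.carrier)) (Ideal.Quotient.mk _) j uA]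
    have : (Ideal.Quotient.mk (nilradical (R ⊗[ℤ] L.carrier)) ∘ uA) = fun _ => (1 : (R ⊗[ℤ] L.carrier) ⧸ nilradical (R ⊗[ℤ] L.carrier)) := funext hone
    rw [this]
    have hjq : IsUnit (j : (R ⊗[ℤ] L.carrier) ⧸ nilradical (R ⊗[ℤ] L.carrier)) := by
      have := hjA.map (Ideal.Quotient.mk (nilradical (R ⊗[ℤ] L.carrier))); rwa [map_natCast] at this
    simp only [disc, geomS, one_pow, mul_one, prod_const_one, sum_const, card_range, nsmul_one, prod_const]
    exact hjq.mul ((hjq.pow _).pow _)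
  let augL : L.carrier →ₐ[ℤ] R := ((Int.castRingHom R).comp L.posStr.aug).toIntAlgHom
  haveI : Nontrivial (R ⊗[ℤ] L.carrier) := (Algebra.TensorProduct.lift (AlgHom.id ℤ R) augL fun _ _ => Commute.all _ _).toRingHom.domain_nontrivial
  haveI : Nontrivial K := P.aug.domain_nontrivial
  have hpA : (KRR.extPoly P e).map χ = nodalP uA := by rw [← Polynomial.map_map, hpmap, map_nodalP]
  let g : AdjoinRoot (KRR.extPoly P e) →+* AdjoinRoot (nodalP uA) :=
    AdjoinRoot.lift ((AdjoinRoot.of (nodalP uA)).comp χ) (AdjoinRoot.root (nodalP uA))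
      (by rw [← eval₂_map, hpA, AdjoinRoot.eval₂_root])
  have hg : ∀ G : K[X], g (AdjoinRoot.mk (KRR.extPoly P e) G) = AdjoinRoot.mk (nodalP uA) (G.map χ) := fun G => by
    rw [AdjoinRoot.lift_mk, ← eval₂_map, ← AdjoinRoot.aeval_eq, aeval_def, AdjoinRoot.algebraMap_eq]
  let Φ : R ⊗[ℤ] AdjoinRoot (KRR.extPoly P e) →ₐ[ℤ] AdjoinRoot (nodalP uA) :=
    Algebra.TensorProduct.lift
      (((AdjoinRoot.of (nodalP uA)).comp (Algebra.TensorProduct.includeLeftRingHom (R := ℤ) (A := R) (B := L.carrier))).toIntAlgHom)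
      g.toIntAlgHom fun _ _ => Commute.all _ _
  have hΦt : ∀ (a : R) (z : AdjoinRoot (KRR.extPoly P e)),
      Φ (a ⊗ₜ[ℤ] z) = AdjoinRoot.of (nodalP uA) (a ⊗ₜ[ℤ] 1) * g z := fun a z => Algebra.TensorProduct.lift_tmul _ _ _ a z
  have hΦ1 : ∀ z : AdjoinRoot (KRR.extPoly P e), Φ ((1 : R) ⊗ₜ[ℤ] z) = g z := fun z => by
    rw [hΦt, ← Algebra.TensorProduct.one_def, map_one, one_mul]
  let fA : AdjoinRoot (nodalP uA) → (R ⊗[ℤ] L.carrier) := fun b =>
    (AdjoinRoot.modByMonicHom (monic_nodalP uA) (AdjoinRoot.mk _ (X ^ r) * b)).coeff r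
  have hfAC : ∀ (a : (R ⊗[ℤ] L.carrier)) b, fA (AdjoinRoot.of _ a * b) = a * fA b := fun a b => by
    obtain ⟨G, rfl⟩ := AdjoinRoot.mk_surjective b
    simp only [fA]
    rw [← AdjoinRoot.mk_C, ← map_mul, ← map_mul, ← map_mul, AdjoinRoot.modByMonicHom_mk,
      AdjoinRoot.modByMonicHom_mk, show X ^ r * (C a * G) = a • (X ^ r * G) by rw [smul_eq_C_mul]; ring,
      smul_modByMonic, coeff_smul, smul_eq_mul]
  have hfAg : ∀ z, fA (g z) = χ (f z) := fun z => by
    obtain ⟨G, rfl⟩ := AdjoinRoot.mk_surjective z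
    simp only [fA]
    rw [hg, ← map_mul, AdjoinRoot.modByMonicHom_mk, functional_eq_coeff he hr f hf linv hlinv,
      ← coeff_map, map_modByMonic χ (monic_extPoly hr).1, hpA]
    simp
  have hfAadd : ∀ a b, fA (a + b) = fA a + fA b := fun a b => by simp [fA, mul_add]
  let ιR : R ⊗[ℤ] K →ₗ[ℤ] (R ⊗[ℤ] L.carrier) := LinearMap.lTensor R ι.toAddMonoidHom.toIntLinearMap
  have hιR : Function.Injective ιR :=
        Module.Flat.lTensor_preserves_injective_linearMap _ hι.injective
  have hcmp : ∀ y, ιR (LinearMap.lTensor R f.toAddMonoidHom.toIntLinearMap y) = fA (Φ y) := by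
    intro y
    induction y using TensorProduct.induction_on with
    | zero => simp [fA]
    | tmul a z =>
      rw [LinearMap.lTensor_tmul, hΦt]
      show a ⊗ₜ[ℤ] ι (f z) = fA (AdjoinRoot.of _ (a ⊗ₜ[ℤ] 1) * g z)
      rw [hfAC, hfAg]
      simp [χ, iL]
    | add a b ha hb => rw [map_add, map_add, map_add, hfAadd, ha, hb]
  obtain ⟨W₀, hW₀⟩ := AdjoinRoot.mk_surjective (Φ w)
  have hlm : AdjoinRoot.root (nodalP uA) * g linv = 1 := by
    have := congrArg g hlinv
    rwa [map_mul, map_one, AdjoinRoot.lift_root, mul_comm] at this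
  have hbott : AdjoinRoot.mk (nodalP uA) (theta j uA) =
      AdjoinRoot.root (nodalP uA) ^ ((r + 1) * (j - 1)) * g (KRR.bott Pe j c) := by
    rw [KRR.bott, haugc, show ((r : ℤ) + 1).toNat = r + 1 by omega, ringHom_aeval,
      bottSym_eval j (r + 1) (fun i => AdjoinRoot.of _ (uA i) * g linv) (fun k => g (LambdaOps.lam k c)) fun k _ => ?_]
    · rw [theta, map_prod, mul_comm (r + 1), pow_mul, ← Fin.prod_const, ← prod_mul_distrib]
      refine prod_congr rfl fun i _ => ?_
      rw [map_geomS, AdjoinRoot.mk_C, AdjoinRoot.mk_X, geomS, mul_sum]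
      refine sum_congr rfl fun a ha => ?_
      have ha' : a ≤ j - 1 := by have := mem_range.1 ha; omega
      rw [mul_pow]
      conv_rhs => rw [show j - 1 = (j - 1 - a) + a from by omega, pow_add]
      rw [mul_mul_mul_comm, mul_comm (AdjoinRoot.root (nodalP uA) ^ a) (g linv ^ a)] at *
      rw [mul_comm (g linv ^ a), ← mul_pow, hlm, one_pow, mul_one, mul_comm]
    · rw [hlamc, map_mul, map_pow, AdjoinRoot.lift_of]
      show _ * AdjoinRoot.of _ (iL (ι (LambdaOps.lam (k + 1) e))) = _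
      rw [hlam, MvPolynomial.aeval_esymm_eq_multiset_esymm, ← hv]
      simp only [Finset.esymm_map_val, map_sum, map_prod, mul_sum, Function.comp_apply, uA]
      refine sum_congr rfl fun s hs => ?_
      rw [prod_mul_distrib, prod_const, (mem_powersetCard.1 hs).2, mul_comm]
  have hW : nodalP uA ∣ (C (j : (R ⊗[ℤ] L.carrier)) * W₀) * theta j uA - C (j : (R ⊗[ℤ] L.carrier)) * X ^ ((r + 1) * (j - 1)) := by
    rw [← AdjoinRoot.mk_eq_zero, map_sub, map_mul, map_mul, map_mul, hW₀, hbott, map_pow, AdjoinRoot.mk_X,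
      show AdjoinRoot.mk (nodalP uA) (C (j : (R ⊗[ℤ] L.carrier))) * Φ w * (AdjoinRoot.root (nodalP uA) ^ ((r + 1) * (j - 1)) *
        g (KRR.bott Pe j c)) = AdjoinRoot.mk (nodalP uA) (C (j : (R ⊗[ℤ] L.carrier))) * AdjoinRoot.root (nodalP uA) ^ ((r + 1) * (j - 1)) *
          Φ (w * ((1 : R) ⊗ₜ[ℤ] KRR.bott Pe j c)) from by
        rw [map_mul, hΦ1]; ring,
      hw, map_one, mul_one, sub_self]
  intro x
  apply hιR
  rw [hcmp]
  induction x using AdjoinRoot.induction_on with
  | ih G =>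
  induction G using Polynomial.induction_on' with
  | add G G' hG hG' =>
    rw [map_add, map_add, adams_add, tmul_add, map_add, hG, hG', adams_add, tmul_add, mul_add, map_add, hfAadd]
  | monomial m a =>
    have hψ : adams Pe j (AdjoinRoot.mk (KRR.extPoly P e) (monomial m a)) =
        AdjoinRoot.of (KRR.extPoly P e) (adams P j a) * (AdjoinRoot.root (KRR.extPoly P e)) ^ (j * m) := by
      rw [← C_mul_X_pow_eq_monomial, map_mul, map_pow, AdjoinRoot.mk_C, AdjoinRoot.mk_X,
        adams_mul hsplit, ← IsExtension.map_adams hext, adams_line (isLine_pow hline m), ← pow_mul, mul_comm m]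
    rw [hψ, map_mul, map_mul, map_natCast, show Φ ((1 : R) ⊗ₜ[ℤ] (AdjoinRoot.of (KRR.extPoly P e) (adams P j a) * (AdjoinRoot.root (KRR.extPoly P e)) ^ (j * m))) =
        AdjoinRoot.of _ (χ (adams P j a)) * AdjoinRoot.mk (nodalP uA) (X ^ (j * m)) from by
      rw [hΦ1, map_mul, map_pow, map_pow, AdjoinRoot.lift_of, AdjoinRoot.lift_root, AdjoinRoot.mk_X]; rfl, ← hW₀, ← map_natCast (AdjoinRoot.of (nodalP uA)), ← AdjoinRoot.mk_C,
      show AdjoinRoot.mk (nodalP uA) (C (j : (R ⊗[ℤ] L.carrier))) * AdjoinRoot.mk (nodalP uA) W₀ *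
        (AdjoinRoot.of _ (χ (adams P j a)) * AdjoinRoot.mk (nodalP uA) (X ^ (j * m))) =
        AdjoinRoot.of _ (χ (adams P j a)) * AdjoinRoot.mk (nodalP uA) (C (j : (R ⊗[ℤ] L.carrier)) * W₀ * X ^ (j * m)) from by
      rw [map_mul, map_mul]; ring, hfAC]
    simp only [fA]
    rw [← map_mul, AdjoinRoot.modByMonicHom_mk, ← mul_assoc, identity hj hQ hW m]
    rw [← C_mul_X_pow_eq_monomial, map_mul, AdjoinRoot.mk_C, functional_of_mul, adams_mul hK,
      functional_eq_coeff he hr f hf linv hlinv]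
    show (1 : R) ⊗ₜ[ℤ] ι (adams P j a * adams P j _) = _
    rw [map_mul, IsExtension.map_adams hι j ((X ^ r * X ^ m %ₘ KRR.extPoly P e).coeff r), ← coeff_map,
      map_modByMonic ι (monic_extPoly hr).1, hpmap]
    show iL (_ * adamsRingHom hKL j _) = _
    rw [← coeff_map (adamsRingHom hKL j), map_modByMonic _ (monic_nodalP uL), map_mul iL]
    refine congrArg (χ (adams P j a) * ·) ?_
    rw [← coeff_map iL, map_modByMonic iL ((monic_nodalP uL).map _), map_nodalP, map_nodalP]
    simp only [Polynomial.map_mul, Polynomial.map_pow, map_X, ← pow_add]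
    congr 2
    refine congrArg nodalP (funext fun k => ?_)
    show iL (adams L.posStr j (uL k)) = iL (uL k) ^ j
    rw [adams_line (hul k), map_pow]

theorem adamsRR (hK : HasSplitting K P) (he : e ∈ P.pos) (hr : P.aug e = r + 1)
    (inst : LambdaOps (AdjoinRoot (KRR.extPoly P e))) (Pe : @PosStructure _ _ inst)
    (hext : @IsExtension K _ _ _ _ inst P Pe (AdjoinRoot.of (KRR.extPoly P e)))
    (hline : @PosStructure.IsLine _ _ inst Pe (AdjoinRoot.root (KRR.extPoly P e)))
    (hsplit : @HasSplitting _ _ inst Pe) (N : ℕ) (hN : @gammaFiltration _ _ inst Pe N = ⊥)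
    (f : AdjoinRoot (KRR.extPoly P e) →ₗ[K] K)
    (hf : ∀ i : ℕ, i ≤ r → f (AdjoinRoot.root (KRR.extPoly P e) ^ i) = KRR.sigma i e)
    (linv : AdjoinRoot (KRR.extPoly P e)) (hlinv : linv * AdjoinRoot.root (KRR.extPoly P e) = 1)
    (j : ℕ) (hj : 1 ≤ j) :
    (∃ w : Localization.Away (j : ℤ) ⊗[ℤ] AdjoinRoot (KRR.extPoly P e),
      w * ((1 : Localization.Away (j : ℤ)) ⊗ₜ[ℤ] @KRR.bott _ _ inst Pe j (AdjoinRoot.of (KRR.extPoly P e) e * linv)) = 1) ∧
    ∀ w : Localization.Away (j : ℤ) ⊗[ℤ] AdjoinRoot (KRR.extPoly P e),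
      w * ((1 : Localization.Away (j : ℤ)) ⊗ₜ[ℤ] @KRR.bott _ _ inst Pe j (AdjoinRoot.of (KRR.extPoly P e) e * linv)) = 1 →
      ∀ x : AdjoinRoot (KRR.extPoly P e),
        (1 : Localization.Away (j : ℤ)) ⊗ₜ[ℤ] adams P j (f x) =
          LinearMap.lTensor (Localization.Away (j : ℤ)) f.toAddMonoidHom.toIntLinearMap
            ((j : Localization.Away (j : ℤ) ⊗[ℤ] AdjoinRoot (KRR.extPoly P e)) * w *
              ((1 : Localization.Away (j : ℤ)) ⊗ₜ[ℤ] @adams _ _ inst Pe j x)) := by
  haveI : IsDomain (Localization.Away (j : ℤ)) :=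
    IsLocalization.isDomain_localization (powers_le_nonZeroDivisors_of_noZeroDivisors (by omega : (j : ℤ) ≠ 0))
  haveI := flat_away j
  exact adamsRR_of_unit hK he hr inst Pe hext hline hsplit N hN f hf linv hlinv j hj (isUnit_natCast_away j)

end GrothLib.Lambda.AdamsRR
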