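import Mathlib.LinearAlgebra.Lagrange
import Mathlib.RingTheory.Localization.FractionRing
import Mathlib.RingTheory.Localization.Away.Basic
import Mathlib.RingTheory.Coprime.Lemmas
import Mathlib.Algebra.MvPolynomial.CommRing
import Mathlib.Algebra.Ring.GeomSum
import Mathlib.Tactic.LinearCombination
import Mathlib.Tactic.Ring

/-!
# The Lagrange identity behind Adams Riemann–Roch for a projective bundle
-/

universe u v

open Polynomial Finset

noncomputable section

namespace GrothLib.Lambda.AdamsRR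

variable {R : Type u} [CommRing R]

/-- `Σ a^x b^{j-1-x}`. -/
def geomS (j : ℕ) (a b : R) : R := ∑ x ∈ range j, a ^ x * b ^ (j - 1 - x)

theorem sub_mul_geomS (j : ℕ) (a b : R) : (a - b) * geomS j a b = a ^ j - b ^ j := by
  rw [mul_comm]; exact geom_sum₂_mul a b j

theorem geomS_self (j : ℕ) (a : R) : geomS j a a = j * a ^ (j - 1) := geom_sum₂_self a j

theorem map_geomS {S : Type v} [CommRing S] (f : R →+* S) (j : ℕ) (a b : R) :
    f (geomS j a b) = geomS j (f a) (f b) := by simp [geomS]

variable {r : ℕ}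

/-- The polynomial with given roots. -/
def nodalP (u : Fin (r + 1) → R) : R[X] := ∏ k, (X - C (u k))

/-- `Π_i Σ_x u_i^x T^{j-1-x}`. -/
def theta (j : ℕ) (u : Fin (r + 1) → R) : R[X] := ∏ i, geomS j (C (u i)) X

/-- The element to be inverted. -/
def disc (j : ℕ) (u : Fin (r + 1) → R) : R := (j : R) * (∏ k, u k) * ∏ i, ∏ k, geomS j (u i) (u k)

theorem monic_nodalP (u : Fin (r + 1) → R) : (nodalP u).Monic :=
  monic_prod_of_monic _ _ fun k _ => monic_X_sub_C (u k)

theorem natDegree_nodalP [Nontrivial R] (u : Fin (r + 1) → R) : (nodalP u).natDegree = r + 1 := by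
  rw [nodalP, natDegree_prod_of_monic _ _ fun k _ => monic_X_sub_C (u k)]
  simp

theorem map_nodalP {S : Type v} [CommRing S] (f : R →+* S) (u : Fin (r + 1) → R) :
    (nodalP u).map f = nodalP (f ∘ u) := by
  rw [nodalP, nodalP, Polynomial.map_prod]
  simp

theorem map_theta {S : Type v} [CommRing S] (f : R →+* S) (j : ℕ) (u : Fin (r + 1) → R) :
    (theta j u).map f = theta j (f ∘ u) := by
  rw [theta, theta, Polynomial.map_prod]
  exact prod_congr rfl fun i _ => (map_geomS (mapRingHom f) j _ _).trans (by simp)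

theorem map_disc {S : Type v} [CommRing S] (f : R →+* S) (j : ℕ) (u : Fin (r + 1) → R) :
    f (disc j u) = disc j (f ∘ u) := by
  simp [disc, map_geomS]

theorem eval_theta (j : ℕ) (u : Fin (r + 1) → R) (t : R) : (theta j u).eval t = ∏ i, geomS j (u i) t := by
  rw [theta, eval_prod]
  exact prod_congr rfl fun i _ => (map_geomS (evalRingHom t) j _ _).trans (by simp)

theorem isUnit_parts {j : ℕ} {u : Fin (r + 1) → R} (h : IsUnit (disc j u)) :
    IsUnit (j : R) ∧ (∀ k, IsUnit (u k)) ∧ ∀ i k, IsUnit (geomS j (u i) (u k)) := by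
  rw [disc, IsUnit.mul_iff, IsUnit.mul_iff] at h
  exact ⟨h.1.1, fun k => isUnit_of_dvd_unit (dvd_prod_of_mem _ (mem_univ k)) h.1.2,
    fun i k => isUnit_of_dvd_unit ((dvd_prod_of_mem (fun k => geomS j (u i) (u k)) (mem_univ k)).trans
      (dvd_prod_of_mem (fun i => ∏ k, geomS j (u i) (u k)) (mem_univ i))) h.2⟩

theorem isCoprime_X_sub_C (a : R) (g : R[X]) (h : IsUnit (g.eval a)) : IsCoprime (X - C a) g := by
  obtain ⟨q, hq⟩ := X_sub_C_dvd_sub_C_eval (a := a) (p := g)
  obtain ⟨c, hc⟩ := h
  refine ⟨-(C (↑c⁻¹ : R) * q), C (↑c⁻¹ : R), ?_⟩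
  rw [show -(C (↑c⁻¹ : R) * q) * (X - C a) + C (↑c⁻¹ : R) * g = C (↑c⁻¹ : R) * (g - (X - C a) * q) by ring,
    ← hq, sub_sub_cancel, ← C_mul, ← hc, Units.inv_mul, C_1]

theorem isCoprime_nodalP_theta {j : ℕ} {u : Fin (r + 1) → R} (h : IsUnit (disc j u)) :
    IsCoprime (nodalP u) (theta j u) :=
  IsCoprime.prod_left fun k _ => isCoprime_X_sub_C _ _ (by
    rw [eval_theta, IsUnit.prod_univ_iff]
    exact fun i => (isUnit_parts h).2.2 i k)

theorem coeff_modByMonic_eq_sum {F : Type u} [Field F] {v : Fin (r + 1) → F} (hv : Function.Injective v)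
    (g : F[X]) :
    (g %ₘ nodalP v).coeff r = ∑ k, g.eval (v k) / ∏ i ∈ univ.erase k, (v k - v i) := by
  have hdeg : (g %ₘ nodalP v).degree < (#(univ : Finset (Fin (r + 1))) : ℕ) := by
    refine (degree_modByMonic_lt g (monic_nodalP v)).trans_le (degree_le_natDegree.trans ?_)
    rw [natDegree_nodalP]
    simp
  have h := Lagrange.coeff_eq_sum (s := univ) (v := v) hv.injOn hdeg
  rw [card_univ, Fintype.card_fin, Nat.add_sub_cancel] at h
  rw [h]
  refine sum_congr rfl fun k _ => congrArg (· / _) ?_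
  have hk : (nodalP v).eval (v k) = 0 := by
    rw [nodalP, eval_prod]
    exact prod_eq_zero (mem_univ k) (by simp)
  rw [modByMonic_eq_sub_mul_div, eval_sub, eval_mul, hk, zero_mul, sub_zero]

theorem identity_field {F : Type u} [Field F] {j : ℕ} {u : Fin (r + 1) → F} (hj : 1 ≤ j) (hjF : (j : F) ≠ 0)
    (hu : ∀ k, u k ≠ 0) (hinj : Function.Injective fun k => u k ^ j) {W : F[X]}
    (hW : nodalP u ∣ W * theta j u - C (j : F) * X ^ ((r + 1) * (j - 1))) (m : ℕ) :
    (X ^ r * W * X ^ (j * m) %ₘ nodalP u).coeff r = (X ^ (r + m) %ₘ nodalP fun k => u k ^ j).coeff r := by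
  have hinj' : Function.Injective u := fun a b hab => hinj (congrArg (· ^ j) hab)
  rw [coeff_modByMonic_eq_sum hinj', coeff_modByMonic_eq_sum hinj]
  refine sum_congr rfl fun k _ => ?_
  have h0 : (W * theta j u - C (j : F) * X ^ ((r + 1) * (j - 1))).eval (u k) = 0 := by
    obtain ⟨q, hq⟩ := hW
    rw [hq, eval_mul, nodalP, eval_prod, prod_eq_zero (mem_univ k) (by simp), zero_mul]
  rw [eval_sub, eval_mul, eval_theta, eval_mul, eval_C, eval_pow, eval_X, sub_eq_zero,
    ← mul_prod_erase univ _ (mem_univ k), geomS_self] at h0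
  have hWS : W.eval (u k) * ∏ i ∈ univ.erase k, geomS j (u i) (u k) = u k ^ (r * (j - 1)) := by
    refine mul_left_cancel₀ (mul_ne_zero hjF (pow_ne_zero (j - 1) (hu k))) ?_
    rw [mul_left_comm, h0, add_mul, one_mul, pow_add]
    ring
  have hne : ∀ i ∈ univ.erase k, u k ^ j - u i ^ j ≠ 0 := fun i hi =>
    sub_ne_zero.2 fun h => (mem_erase.1 hi).1 (hinj h).symm
  have hne' : ∀ i ∈ univ.erase k, u k - u i ≠ 0 := fun i hi =>
    sub_ne_zero.2 fun h => (mem_erase.1 hi).1 (hinj' h).symm
  have hd : ∏ i ∈ univ.erase k, (u k ^ j - u i ^ j) =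
      (∏ i ∈ univ.erase k, (u k - u i)) * ∏ i ∈ univ.erase k, geomS j (u i) (u k) := by
    rw [← prod_mul_distrib]
    refine prod_congr rfl fun i _ => ?_
    linear_combination sub_mul_geomS j (u i) (u k)
  simp only [eval_mul, eval_pow, eval_X]
  rw [div_eq_div_iff (prod_ne_zero_iff.2 hne') (prod_ne_zero_iff.2 hne), hd]
  have he : r + j * m + r * (j - 1) = j * (r + m) := by
    obtain ⟨c, rfl⟩ : ∃ c, j = c + 1 := ⟨j - 1, by omega⟩
    simp only [Nat.add_sub_cancel]
    ring
  rw [← pow_mul, ← he, pow_add, pow_add, ← hWS]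
  ring

/-- The identity over any ring in which the discriminant-like element is a unit. -/
theorem identity {A : Type u} [CommRing A] [Nontrivial A] {j : ℕ} {u : Fin (r + 1) → A} (hj : 1 ≤ j)
    (hQ : IsUnit (disc j u)) {W : A[X]}
    (hW : nodalP u ∣ W * theta j u - C (j : A) * X ^ ((r + 1) * (j - 1))) (m : ℕ) :
    (X ^ r * W * X ^ (j * m) %ₘ nodalP u).coeff r = (X ^ (r + m) %ₘ nodalP fun k => u k ^ j).coeff r := by
  let P₀ := MvPolynomial (Fin (r + 1)) ℤ
  let x : Fin (r + 1) → P₀ := fun k => MvPolynomial.X k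
  let Q₀ : P₀ := disc j x
  have hQ₀ : Q₀ ≠ 0 := fun h => by
    have h1 := congrArg (MvPolynomial.eval fun _ => (1 : ℤ)) h
    rw [map_disc, map_zero] at h1
    simp [disc, geomS, x, Function.comp_def] at h1
    omega
  let U := Localization.Away Q₀
  haveI : IsDomain U := IsLocalization.isDomain_localization (powers_le_nonZeroDivisors_of_noZeroDivisors hQ₀)
  let ev : P₀ →+* A := (MvPolynomial.aeval u).toRingHom
  have hevx : ev ∘ x = u := funext fun k => MvPolynomial.aeval_X u k
  have hev : IsUnit (ev Q₀) := by rw [map_disc, hevx]; exact hQ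
  let f : U →+* A := IsLocalization.Away.lift Q₀ hev
  let y : Fin (r + 1) → U := fun k => algebraMap P₀ U (x k)
  have hfy : f ∘ y = u := funext fun k => (IsLocalization.Away.lift_eq Q₀ hev (x k)).trans (congrFun hevx k)
  have hQy : IsUnit (disc j y) := by
    have := IsLocalization.Away.algebraMap_isUnit (S := U) Q₀
    rwa [map_disc] at this
  obtain ⟨a, b, hab⟩ := isCoprime_nodalP_theta hQy
  let W₀ : U[X] := C (j : U) * X ^ ((r + 1) * (j - 1)) * b
  have hW₀ : nodalP y ∣ W₀ * theta j y - C (j : U) * X ^ ((r + 1) * (j - 1)) :=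
    ⟨-(C (j : U) * X ^ ((r + 1) * (j - 1)) * a), by
      linear_combination (C (j : U) * X ^ ((r + 1) * (j - 1))) * hab⟩
  have hWW : nodalP u ∣ W - W₀.map f := by
    have h1 := Polynomial.map_dvd f hW₀
    simp only [Polynomial.map_sub, Polynomial.map_mul, map_theta, map_nodalP, hfy,
      Polynomial.map_pow, map_X, map_C] at h1
    rw [map_natCast f j] at h1
    have h2 := dvd_sub hW h1
    rw [sub_sub_sub_cancel_right, ← sub_mul] at h2
    exact (isCoprime_nodalP_theta hQ).dvd_of_dvd_mul_right h2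
  have hU : (X ^ r * W₀ * X ^ (j * m) %ₘ nodalP y).coeff r = (X ^ (r + m) %ₘ nodalP fun k => y k ^ j).coeff r := by
    let L := FractionRing U
    let ι := algebraMap U L
    have hι : Function.Injective ι := IsFractionRing.injective U L
    apply hι
    rw [← coeff_map, ← coeff_map, map_modByMonic ι (monic_nodalP y), map_modByMonic ι (monic_nodalP _),
      map_nodalP, map_nodalP]
    simp only [Polynomial.map_mul, Polynomial.map_pow, map_X]
    have hcomp : (ι ∘ fun k => y k ^ j) = fun k => (ι ∘ y) k ^ j := by funext k; simp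
    rw [hcomp]
    refine identity_field hj ?_ (fun k => ((isUnit_parts hQy).2.1 k).map ι |>.ne_zero) ?_ ?_ m
    · rw [← map_natCast ι]
      exact ((isUnit_parts hQy).1.map ι).ne_zero
    · intro k l hkl
      simp only [Function.comp_apply, y, ← map_pow] at hkl
      have h1 := IsLocalization.injective U (powers_le_nonZeroDivisors_of_noZeroDivisors hQ₀) (hι hkl)
      dsimp only [x, P₀] at h1
      rw [MvPolynomial.X_pow_eq_monomial, MvPolynomial.X_pow_eq_monomial] at h1
      exact Finsupp.single_left_injective (by omega) ((MvPolynomial.monomial_left_inj one_ne_zero).1 h1)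
    · have h1 := Polynomial.map_dvd ι hW₀
      simp only [Polynomial.map_sub, Polynomial.map_mul, map_theta, map_nodalP,
        Polynomial.map_pow, map_X, map_C] at h1
      rw [map_natCast ι j] at h1
      exact h1
  have h2 := congrArg f hU
  rw [← coeff_map, ← coeff_map, map_modByMonic f (monic_nodalP y), map_modByMonic f (monic_nodalP _),
    map_nodalP, map_nodalP] at h2
  simp only [Polynomial.map_mul, Polynomial.map_pow, map_X, hfy,
    show (f ∘ fun k => y k ^ j) = fun k => u k ^ j by funext k; simp [← hfy]] at h2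
  rw [← h2]
  refine congrArg (coeff · r) ((sub_eq_zero.1 ?_))
  rw [← sub_modByMonic, modByMonic_eq_zero_iff_dvd (monic_nodalP u), ← sub_mul, ← mul_sub]
  exact (hWW.mul_left _).mul_right _

end GrothLib.Lambda.AdamsRR
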